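import Cfsg.Agent.H786.FC.Main
import Cfsg.Agent.H198.FC.DefsB

/-!
# S5764: from the three families to the statement  (helper786)
-/

set_option autoImplicit false

namespace Cfsg.Agent.H786.FC

open Subgroup Cfsg

/-- helper198's `FiveAut` implies `AllFive`. -/
theorem allFive_of_fiveAut {K : Type*} [Group K] (h : H198.FC.FiveAut K) : AllFive K := by
  intro S hS
  obtain ⟨x, hx⟩ := h S hS
  refine ⟨fun i => (MulAut.conj (x i))⁻¹, fun i => inv_mem ⟨x i, rfl⟩, fun s hs hi => hx s hs fun i => ?_⟩
  have := hi i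
  rwa [inv_inv] at this

theorem fiveAut_of_allFive {K : Type*} [Group K] (h : AllFive K) : H198.FC.FiveAut K := by
  intro S hS
  obtain ⟨x, hx, hx'⟩ := h S hS
  choose t ht using fun i => hx i
  refine ⟨fun i => (t i)⁻¹, fun s hs hi => hx' s hs fun i => ?_⟩
  have := hi i
  rw [map_inv, inv_inv, ht i] at this
  exact this

theorem stmtMain : H198.FC.StmtMain := by
  intro hL hU hSp G _ _ T hT _ _ hTcent hsoc S hS
  refine statement_of_rows ⟨?_, ?_, ?_⟩ T hT hTcent hsoc S hS
  · intro F _ _ n hn h4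
    exact allFive_of_fiveAut (hL F n hn h4)
  · intro F _ _ m hm h3
    exact allFive_of_fiveAut (hSp F m hm h3)
  · intro F _ _ n q hq hn h32
    exact allFive_of_fiveAut (hU F n q hq hn h32)

end Cfsg.Agent.H786.FC
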