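import Cfsg.Agent.H89.RC.Lev
import Cfsg.Agent.S4374
import Cfsg.Prelude.Def_Classical

/-!
# S5764: five conjugates of a solvable subgroup  (interface, helper786)

`Five T S` : four elements of `T` conjugate `S` such that the five conjugates meet trivially.
`AllFive K` : this holds for all solvable subgroups of `MulAut K`, with conjugators in `Inn K`.
-/

set_option autoImplicit false

namespace Cfsg.Agent.H786.FC

open Subgroup Cfsg
open scoped Pointwise

universe u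

/-- The inner automorphism group. -/
abbrev InnG (K : Type*) [Group K] : Subgroup (MulAut K) := (MulAut.conj : K →* MulAut K).range

/-- There are `x i ∈ T` such that the five conjugates `S`, `x i S (x i)⁻¹` intersect trivially. -/
def Five {A : Type*} [Group A] (T S : Subgroup A) : Prop :=
  ∃ x : Fin 4 → A, (∀ i, x i ∈ T) ∧ ∀ s ∈ S, (∀ i, (x i)⁻¹ * s * x i ∈ S) → s = 1

/-- The target for a simple group `K`. -/
def AllFive (K : Type*) [Group K] : Prop :=
  ∀ S : Subgroup (MulAut K), Group.IsSolvable S → Five (InnG K) S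

section basic

variable {A : Type*} [Group A] {T S : Subgroup A}

theorem Five.mono {S' : Subgroup A} (h : Five T S') (hS : S ≤ S') : Five T S := by
  obtain ⟨x, hx, h⟩ := h
  exact ⟨x, hx, fun s hs hsi => h s (hS hs) fun i => hS (hsi i)⟩

/-- fewer conjugates suffice -/
theorem five_of_list {x₁ x₂ x₃ x₄ : A} (h1 : x₁ ∈ T) (h2 : x₂ ∈ T) (h3 : x₃ ∈ T) (h4 : x₄ ∈ T)
    (h : ∀ s ∈ S, x₁⁻¹ * s * x₁ ∈ S → x₂⁻¹ * s * x₂ ∈ S → x₃⁻¹ * s * x₃ ∈ S → x₄⁻¹ * s * x₄ ∈ S → s = 1) :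
    Five T S := by
  refine ⟨![x₁, x₂, x₃, x₄], fun i => ?_, fun s hs hi => ?_⟩
  · fin_cases i
    exacts [h1, h2, h3, h4]
  · exact h s hs (hi 0) (hi 1) (hi 2) (hi 3)

theorem five_of_one {x : A} (hx : x ∈ T) (h : ∀ s ∈ S, x⁻¹ * s * x ∈ S → s = 1) : Five T S :=
  five_of_list hx hx hx hx fun s hs h1 _ _ _ => h s hs h1

theorem five_of_two {x y : A} (hx : x ∈ T) (hy : y ∈ T)
    (h : ∀ s ∈ S, x⁻¹ * s * x ∈ S → y⁻¹ * s * y ∈ S → s = 1) : Five T S :=
  five_of_list hx hy hy hy fun s hs h1 h2 _ _ => h s hs h1 h2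

theorem five_of_three {x y z : A} (hx : x ∈ T) (hy : y ∈ T) (hz : z ∈ T)
    (h : ∀ s ∈ S, x⁻¹ * s * x ∈ S → y⁻¹ * s * y ∈ S → z⁻¹ * s * z ∈ S → s = 1) : Five T S :=
  five_of_list hx hy hz hz fun s hs h1 h2 h3 _ => h s hs h1 h2 h3

/-- `Five` for all solvable subgroups follows from the maximal ones. -/
theorem exists_maximal_solvable [Finite A] (hS : Group.IsSolvable S) :
    ∃ M : Subgroup A, S ≤ M ∧ Group.IsSolvable M ∧ ∀ N : Subgroup A, M ≤ N → Group.IsSolvable N → N = M := by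
  obtain ⟨M, hSM, hM⟩ := (Set.toFinite {N : Subgroup A | Group.IsSolvable N}).exists_le_maximal
    (show S ∈ {N : Subgroup A | Group.IsSolvable N} from hS)
  exact ⟨M, hSM, hM.prop, fun N hMN hN => le_antisymm (hM.le_of_ge hN hMN) hMN⟩

/-- A maximal solvable subgroup contains every solvable subgroup it normalizes. -/
theorem le_of_maximal {M U : Subgroup A} (hM : Group.IsSolvable M)
    (hmax : ∀ N : Subgroup A, M ≤ N → Group.IsSolvable N → N = M) (hU : Group.IsSolvable U)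
    (hn : ∀ m ∈ M, ∀ u ∈ U, m * u * m⁻¹ ∈ U) : U ≤ M := by
  have hMn : M ≤ normalizer (U : Set A) := by
    intro m hm
    rw [mem_normalizer_iff]
    intro u
    refine ⟨fun hu => hn m hm u hu, fun hu => ?_⟩
    have := hn m⁻¹ (inv_mem hm) _ hu
    simpa [mul_assoc] using this
  have h1 : Group.IsSolvable ↥(M ⊔ U) := by
    have hle : M ⊔ U ≤ normalizer (U : Set A) := sup_le hMn le_normalizer
    have hN : (U.subgroupOf (M ⊔ U)).Normal := (normal_subgroupOf_iff_le_normalizer le_sup_right).2 hle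
    have hq : Group.IsSolvable (↥(M ⊔ U) ⧸ U.subgroupOf (M ⊔ U)) := by
      let f : M →* (↥(M ⊔ U) ⧸ U.subgroupOf (M ⊔ U)) :=
        (QuotientGroup.mk' (U.subgroupOf (M ⊔ U))).comp (inclusion le_sup_left)
      refine Group.isSolvable_of_surjective (f := f) ?_
      intro y
      obtain ⟨⟨g, hg⟩, rfl⟩ := QuotientGroup.mk_surjective y
      rw [sup_eq_closure_mul] at hg
      have hg' : g ∈ M ⊔ U := by rw [sup_eq_closure_mul]; exact hg
      have h2 : ((M : Set A) * (U : Set A)) = ((M ⊔ U : Subgroup A) : Set A) :=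
        (coe_mul_of_left_le_normalizer_right M U hMn).symm
      have h3 : g ∈ ((M : Set A) * (U : Set A)) := by rw [h2]; exact hg'
      obtain ⟨m, hm, w, hw, rfl⟩ := Set.mem_mul.1 h3
      refine ⟨⟨m, hm⟩, ?_⟩
      refine QuotientGroup.eq.2 ?_
      rw [mem_subgroupOf]
      simpa using hw
    have hk : Group.IsSolvable ↥(U.subgroupOf (M ⊔ U)) :=
      Group.isSolvable_of_isSolvable_injective (f := (subgroupOfEquivOfLe (le_sup_right : U ≤ M ⊔ U)).toMonoidHom)
        (subgroupOfEquivOfLe le_sup_right).injective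
    exact (Group.isSolvable_iff_subgroup_quotient (U.subgroupOf (M ⊔ U))).2 ⟨hk, hq⟩
  have h2 := hmax _ le_sup_left h1
  rw [← h2]
  exact le_sup_right

/-- **The trick** (helper5). `F` normal in `S`, `F ∩ S^x = 1`, and `v₁, v₂, v₃ ∈ F` with trivial common centralizer
in `S ∩ S^x`. -/
theorem five_of_trick {F : Subgroup A} (hT : T.Normal) (hFS : F ≤ S) (hFn : ∀ s ∈ S, ∀ v ∈ F, s * v * s⁻¹ ∈ F) {x : A}
    (hx : x ∈ T) (hxF : ∀ v ∈ F, x⁻¹ * v * x ∈ S → v = 1) {v₁ v₂ v₃ : A} (h1 : v₁ ∈ F) (h2 : v₂ ∈ F) (h3 : v₃ ∈ F)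
    (hD : ∀ k ∈ S, x⁻¹ * k * x ∈ S → k * v₁ = v₁ * k → k * v₂ = v₂ * k → k * v₃ = v₃ * k → k = 1) : Five T S := by
  have key : ∀ v ∈ F, ∀ k ∈ S, x⁻¹ * k * x ∈ S → (v * x * v⁻¹)⁻¹ * k * (v * x * v⁻¹) ∈ S → k * v = v * k := by
    intro v hv k hk h4 h5
    have hvS := hFS hv
    have h6 : x⁻¹ * (v⁻¹ * k * v) * x ∈ S := by
      have := mul_mem (mul_mem (inv_mem hvS) h5) hvS
      have e : v⁻¹ * ((v * x * v⁻¹)⁻¹ * k * (v * x * v⁻¹)) * v = x⁻¹ * (v⁻¹ * k * v) * x := by group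
      rwa [e] at this
    have h7 : k⁻¹ * v⁻¹ * k * v ∈ F := by
      have := hFn k⁻¹ (inv_mem hk) v⁻¹ (inv_mem hv)
      rw [inv_inv] at this
      exact mul_mem this hv
    have h8 : x⁻¹ * (k⁻¹ * v⁻¹ * k * v) * x ∈ S := by
      have := mul_mem (inv_mem h4) h6
      have e : (x⁻¹ * k * x)⁻¹ * (x⁻¹ * (v⁻¹ * k * v) * x) = x⁻¹ * (k⁻¹ * v⁻¹ * k * v) * x := by group
      rwa [e] at this
    have h9 := hxF _ h7 h8
    have h10 : v * k * (k⁻¹ * v⁻¹ * k * v) = k * v := by group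
    rw [h9, mul_one] at h10
    exact h10.symm
  refine five_of_list hx (hT.conj_mem x hx v₁) (hT.conj_mem x hx v₂) (hT.conj_mem x hx v₃) ?_
  intro s hs a0 a1 a2 a3
  exact hD s hs a0 (key v₁ h1 s hs a0 a1) (key v₂ h2 s hs a0 a2) (key v₃ h3 s hs a0 a3)

end basic

section fitting

/-- three elements of the Fitting subgroup of a solvable group whose common centralizer lies in the Fitting subgroup -/
theorem fit_base {S : Type u} [Group S] [Finite S] [Group.IsSolvable S] :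
    ∃ v₁ ∈ fittingSubgroup S, ∃ v₂ ∈ fittingSubgroup S, ∃ v₃ ∈ fittingSubgroup S,
      ∀ k : S, k * v₁ = v₁ * k → k * v₂ = v₂ * k → k * v₃ = v₃ * k → k ∈ fittingSubgroup S := by
  have hsolq : Group.IsSolvable (S ⧸ frattini S) :=
    Group.isSolvable_of_surjective (QuotientGroup.mk'_surjective (frattini S))
  obtain ⟨V, i1, i2, i3, e, he, hfaith, hcr⟩ := H89.RC.step0 (G := S ⧸ frattini S) H89.RC.frattini_quot
  have hF : fittingSubgroup (S ⧸ frattini S) = (fittingSubgroup S).map (QuotientGroup.mk' (frattini S)) := S0070.result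
  have hsol2 : Group.IsSolvable ((S ⧸ frattini S) ⧸ fittingSubgroup (S ⧸ frattini S)) :=
    Group.isSolvable_of_surjective (QuotientGroup.mk'_surjective _)
  have hff : FaithfulSMul ((S ⧸ frattini S) ⧸ fittingSubgroup (S ⧸ frattini S)) V := by
    refine ⟨fun {a b} h => ?_⟩
    have h1 : b⁻¹ * a = 1 := by
      apply hfaith
      intro v
      rw [mul_smul, h v, inv_smul_smul]
    exact (inv_mul_eq_one.1 h1).symm
  obtain ⟨w₁, w₂, w₃, hw⟩ := S4374.result hsol2 hcr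
  have hlift : ∀ w : V, ∃ v ∈ fittingSubgroup S, ∀ k : S, k * v = v * k →
      (((k : S ⧸ frattini S) : (S ⧸ frattini S) ⧸ fittingSubgroup (S ⧸ frattini S))) • w = w := by
    intro w
    obtain ⟨y, hy⟩ : ∃ y : fittingSubgroup (S ⧸ frattini S), e (Additive.ofMul y) = w :=
      ⟨(e.symm w).toMul, e.apply_symm_apply w⟩
    obtain ⟨v, hv, hvy⟩ := (SetLike.ext_iff.1 hF _).1 y.2
    refine ⟨v, hv, fun k hk => ?_⟩
    rw [← hy, he]
    congr 2
    apply Subtype.ext
    show (k : S ⧸ frattini S) * (y : S ⧸ frattini S) * (k : S ⧸ frattini S)⁻¹ = y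
    rw [← hvy]
    show ((k * v * k⁻¹ : S) : S ⧸ frattini S) = (v : S ⧸ frattini S)
    rw [hk, mul_inv_cancel_right]
  obtain ⟨v₁, h1, h1'⟩ := hlift w₁
  obtain ⟨v₂, h2, h2'⟩ := hlift w₂
  obtain ⟨v₃, h3, h3'⟩ := hlift w₃
  refine ⟨v₁, h1, v₂, h2, v₃, h3, fun k a1 a2 a3 => ?_⟩
  have h4 := hw _ (h1' k a1) (h2' k a2) (h3' k a3)
  have h5 : (k : S ⧸ frattini S) ∈ fittingSubgroup (S ⧸ frattini S) := (QuotientGroup.eq_one_iff _).1 h4
  rw [hF] at h5
  obtain ⟨x, hx, hxg⟩ := h5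
  have h6 : x⁻¹ * k ∈ frattini S := QuotientGroup.eq.1 hxg
  have h7 : x⁻¹ * k ∈ fittingSubgroup S := Lib.Cores.le_fittingSubgroup inferInstance frattini_nilpotent h6
  have h8 := mul_mem hx h7
  rwa [mul_inv_cancel_left] at h8

/-- **Main criterion**: some `T`-conjugate of the solvable group `S` meets the Fitting subgroup of `S` trivially. -/
theorem five_of_fitting {A : Type u} [Group A] [Finite A] {T S : Subgroup A} (hT : T.Normal) (hS : Group.IsSolvable S)
    {x : A} (hx : x ∈ T) (hxF : ∀ v : S, v ∈ fittingSubgroup S → x⁻¹ * v * x ∈ S → v = 1) : Five T S := by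
  obtain ⟨v₁, h1, v₂, h2, v₃, h3, hb⟩ := fit_base (S := S)
  have hmap : ∀ v : A, v ∈ (fittingSubgroup S).map S.subtype ↔ ∃ h : v ∈ S, (⟨v, h⟩ : S) ∈ fittingSubgroup S := by
    intro v
    constructor
    · rintro ⟨w, hw, rfl⟩
      exact ⟨w.2, hw⟩
    · rintro ⟨h, hw⟩
      exact ⟨⟨v, h⟩, hw, rfl⟩
  refine five_of_trick (F := (fittingSubgroup S).map S.subtype) hT (map_subtype_le _) ?_ hx ?_
    (mem_map_of_mem _ h1) (mem_map_of_mem _ h2) (mem_map_of_mem _ h3) ?_
  · intro s hs v hv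
    obtain ⟨w, hw, rfl⟩ := hv
    have hn : (fittingSubgroup S).Normal := Lib.Cores.fittingSubgroup_normal
    exact ⟨_, hn.conj_mem w hw ⟨s, hs⟩, rfl⟩
  · intro v hv h
    obtain ⟨hvS, hvF⟩ := (hmap v).1 hv
    exact congrArg Subtype.val (hxF ⟨v, hvS⟩ hvF h)
  · intro k hk hkx c1 c2 c3
    have h4 := hb ⟨k, hk⟩ (Subtype.ext c1) (Subtype.ext c2) (Subtype.ext c3)
    exact congrArg Subtype.val (hxF ⟨k, hk⟩ h4 hkx)

end fitting

section transport

theorem Five.map_equiv {A B : Type*} [Group A] [Group B] (e : A ≃* B) {T S : Subgroup A} {T' S' : Subgroup B}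
    (hT : ∀ x ∈ T', e.symm x ∈ T) (hS : ∀ x, e x ∈ S' ↔ x ∈ S) (h : Five T' S') : Five T S := by
  obtain ⟨x, hx, h⟩ := h
  refine ⟨fun i => e.symm (x i), fun i => hT _ (hx i), fun s hs hi => ?_⟩
  have h1 := h (e s) ((hS s).2 hs) fun i => by
    have := (hS _).2 (hi i)
    simpa using this
  simpa using h1

theorem AllFive.of_equiv {K K' : Type*} [Group K] [Group K'] (e : K ≃* K') (h : AllFive K') : AllFive K := by
  intro S hS
  have hS' : Group.IsSolvable ↥(S.map (MulAut.congr e).toMonoidHom) := by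
    have := hS
    exact Group.isSolvable_of_surjective (f := (MulAut.congr e).toMonoidHom.subgroupMap S)
      ((MulAut.congr e).toMonoidHom.subgroupMap_surjective S)
  refine Five.map_equiv (MulAut.congr e) ?_ ?_ (h _ hS')
  · rintro _ ⟨k, rfl⟩
    refine ⟨e.symm k, ?_⟩
    ext y
    simp [MulAut.congr]
  · intro x
    constructor
    · rintro ⟨y, hy, hxy⟩
      rwa [← (MulAut.congr e).injective hxy]
    · intro hx
      exact ⟨x, hx, rfl⟩

/-- From `AllFive` to the form of the statement. -/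
theorem statement_of_allFive {G : Type*} [Group G] [Finite G] (T : Subgroup G) (hT : T.Normal)
    (hTcent : centralizer (T : Set G) = ⊥) (h : AllFive T) (S : Subgroup G) (hS : Group.IsSolvable S) :
    ∃ x₁ x₂ x₃ x₄ : G, S ⊓ S.map (MulAut.conj x₁).toMonoidHom ⊓ S.map (MulAut.conj x₂).toMonoidHom ⊓
      S.map (MulAut.conj x₃).toMonoidHom ⊓ S.map (MulAut.conj x₄).toMonoidHom = ⊥ := by
  let φ : G →* MulAut T := MulAut.conjNormal
  have hφ : Function.Injective φ := by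
    rw [← MonoidHom.ker_eq_bot_iff, eq_bot_iff, ← hTcent]
    intro g hg
    rw [mem_centralizer_iff]
    intro t ht
    have h1 : φ g ⟨t, ht⟩ = ⟨t, ht⟩ := by
      rw [(MonoidHom.mem_ker).1 hg]; rfl
    have h2 : g * t * g⁻¹ = t := congrArg Subtype.val h1
    rw [mul_inv_eq_iff_eq_mul] at h2
    exact h2.symm
  have hS' : Group.IsSolvable ↥(S.map φ) := by
    have := hS
    exact Group.isSolvable_of_surjective (f := φ.subgroupMap S) (φ.subgroupMap_surjective S)
  obtain ⟨x, hx, hxs⟩ := h _ hS'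
  choose t ht using fun i => hx i
  have htφ : ∀ i, φ (t i) = x i := fun i => by
    rw [← ht i]
    ext y
    rfl
  refine ⟨t 0, t 1, t 2, t 3, ?_⟩
  rw [eq_bot_iff]
  rintro s ⟨⟨⟨⟨hs, h0⟩, h1⟩, h2⟩, h3⟩
  have conv : ∀ i, s ∈ S.map (MulAut.conj (t i : G)).toMonoidHom → (x i)⁻¹ * φ s * x i ∈ S.map φ := by
    rintro i ⟨y, hy, rfl⟩
    refine ⟨y, hy, ?_⟩
    rw [← htφ i, ← map_inv, ← map_mul, ← map_mul]
    congr 1
    simp [MulAut.conj_apply, mul_assoc]
  have := hxs (φ s) ⟨s, hs, rfl⟩ fun i => by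
    fin_cases i
    exacts [conv 0 h0, conv 1 h1, conv 2 h2, conv 3 h3]
  rw [mem_bot]
  exact hφ (by rw [this, map_one])

end transport

end Cfsg.Agent.H786.FC
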