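import Cfsg.Agent.H786.FC.Base

/-!
# S5764: counting criteria (helper786)
-/

set_option autoImplicit false

namespace Cfsg.Agent.H786.FC

open Subgroup

variable {A : Type*} [Group A]

/-- number of `x ∈ T` with `x⁻¹ s x ∈ S` -/
noncomputable def hits (T S : Subgroup A) (s : A) : ℕ := Nat.card {x : T // (x : A)⁻¹ * s * x ∈ S}

theorem exists_good [Finite A] {T S F : Subgroup A} (P : Finset A) (hP : ∀ v ∈ F, v ≠ 1 → ∃ s ∈ P, s ∈ zpowers v)
    (hsum : ∑ s ∈ P, hits T S s < Nat.card T) : ∃ x ∈ T, ∀ v ∈ F, x⁻¹ * v * x ∈ S → v = 1 := by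
  classical
  by_contra hcon
  push Not at hcon
  have hsurj : Function.Surjective (fun y : (Σ s : P, {x : T // (x : A)⁻¹ * (s : A) * x ∈ S}) => (y.2 : T)) := by
    rintro ⟨x, hx⟩
    obtain ⟨v, hv, hvx, hv1⟩ := hcon x hx
    obtain ⟨s, hs, hsv⟩ := hP v hv hv1
    refine ⟨⟨⟨s, hs⟩, ⟨⟨x, hx⟩, ?_⟩⟩, rfl⟩
    obtain ⟨k, rfl⟩ := mem_zpowers_iff.1 hsv
    have h1 : x⁻¹ * v ^ k * x = (x⁻¹ * v * x) ^ k := by
      have := (conj_zpow (a := x⁻¹) (b := v) (i := k))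
      rw [inv_inv] at this
      exact this.symm
    show x⁻¹ * v ^ k * x ∈ S
    rw [h1]
    exact zpow_mem hvx k
  have h1 := Nat.card_le_card_of_surjective _ hsurj
  rw [Nat.card_sigma] at h1
  have h2 : (∑ a : P, Nat.card {x : T // (x : A)⁻¹ * (a : A) * x ∈ S}) = ∑ s ∈ P, hits T S s :=
    Finset.sum_coe_sort P (fun s => hits T S s)
  rw [h2] at h1
  omega

/-- the 4-tuple version: five conjugates of `S` by the union bound -/
theorem five_of_count [Finite A] {T S : Subgroup A} (P : Finset A) (hP : ∀ v ∈ S, v ≠ 1 → ∃ s ∈ P, s ∈ zpowers v)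
    (hsum : ∑ s ∈ P, hits T S s ^ 4 < Nat.card T ^ 4) : Five T S := by
  classical
  by_contra hcon
  have hcon' : ∀ x : Fin 4 → T, ∃ s ∈ S, (∀ i, (x i : A)⁻¹ * s * x i ∈ S) ∧ s ≠ 1 := by
    intro x
    by_contra hx
    push Not at hx
    exact hcon ⟨fun i => x i, fun i => (x i).2, fun s hs hi => hx s hs hi⟩
  have hsurj : Function.Surjective (fun y : (Σ s : P, (Fin 4 → {x : T // (x : A)⁻¹ * (s : A) * x ∈ S})) =>
      (fun i => (y.2 i : T))) := by
    intro x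
    obtain ⟨v, hv, hvx, hv1⟩ := hcon' x
    obtain ⟨s, hs, hsv⟩ := hP v hv hv1
    refine ⟨⟨⟨s, hs⟩, fun i => ⟨x i, ?_⟩⟩, rfl⟩
    obtain ⟨k, rfl⟩ := mem_zpowers_iff.1 hsv
    have h1 : (x i : A)⁻¹ * v ^ k * x i = ((x i : A)⁻¹ * v * x i) ^ k := by
      have := (conj_zpow (a := (x i : A)⁻¹) (b := v) (i := k))
      rw [inv_inv] at this
      exact this.symm
    show (x i : A)⁻¹ * v ^ k * x i ∈ S
    rw [h1]
    exact zpow_mem (hvx i) k
  have h1 := Nat.card_le_card_of_surjective _ hsurj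
  rw [Nat.card_sigma, Nat.card_fun, Nat.card_fin] at h1
  have h2 : (∑ a : P, Nat.card (Fin 4 → {x : T // (x : A)⁻¹ * (a : A) * x ∈ S})) = ∑ s ∈ P, hits T S s ^ 4 := by
    rw [← Finset.sum_coe_sort P (fun s => hits T S s ^ 4)]
    refine Finset.sum_congr rfl fun a _ => ?_
    rw [Nat.card_fun, Nat.card_fin]
    rfl
  rw [h2] at h1
  omega

/-- `hits T S s = |C_T(s)| * |s^T ∩ S|` -/
theorem hits_eq [Finite A] (T S : Subgroup A) (s : A) :
    hits T S s = Nat.card ↥(T ⊓ centralizer {s}) * Nat.card {y : S // ∃ x ∈ T, x⁻¹ * s * x = y} := by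
  classical
  have key : ∀ y : {y : S // ∃ x ∈ T, x⁻¹ * s * x = y},
      Nonempty ({x : T // (x : A)⁻¹ * s * x = (y.1 : A)} ≃ ↥(T ⊓ centralizer {s})) := by
    rintro ⟨y, x₀, hx₀, hy⟩
    refine ⟨⟨fun x => ⟨(x.1 : A) * x₀⁻¹, mem_inf.2 ⟨?_, ?_⟩⟩, fun c => ⟨⟨(c : A) * x₀, ?_⟩, ?_⟩, ?_, ?_⟩⟩
    · exact mul_mem x.1.2 (inv_mem hx₀)
    · rw [mem_centralizer_singleton_iff]
      have h1 : (x.1 : A)⁻¹ * s * x.1 = x₀⁻¹ * s * x₀ := by rw [x.2]; exact hy.symm
      have h2 : s * (x.1 : A) = (x.1 : A) * (x₀⁻¹ * s * x₀) := by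
        have h4 : s * (x.1 : A) = (x.1 : A) * ((x.1 : A)⁻¹ * s * x.1) := by group
        exact h4.trans (congrArg (fun z => (x.1 : A) * z) h1)
      have h3 : s * ((x.1 : A) * x₀⁻¹) = (x.1 : A) * x₀⁻¹ * s := by
        rw [← mul_assoc, h2]; group
      first | exact h3.symm | exact h3
    · exact mul_mem (mem_inf.1 c.2).1 hx₀
    · have hc := (mem_inf.1 c.2).2
      rw [mem_centralizer_singleton_iff] at hc
      have h1 : (c : A)⁻¹ * s * c = s := by
        have hc' : (c : A) * s = s * c ∨ s * (c : A) = c * s := by first | exact Or.inl hc | exact Or.inr hc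
        rcases hc' with h | h
        · rw [mul_assoc, ← h]; group
        · rw [mul_assoc, h]; group
      show ((c : A) * x₀)⁻¹ * s * (c * x₀) = y
      calc ((c : A) * x₀)⁻¹ * s * (c * x₀) = x₀⁻¹ * ((c : A)⁻¹ * s * c) * x₀ := by group
        _ = y := by rw [h1]; exact hy
    · intro x
      apply Subtype.ext
      apply Subtype.ext
      show (x.1 : A) * x₀⁻¹ * x₀ = x.1
      group
    · intro c
      apply Subtype.ext
      show (c : A) * x₀ * x₀⁻¹ = c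
      group
  let g : {x : T // (x : A)⁻¹ * s * x ∈ S} → {y : S // ∃ x ∈ T, x⁻¹ * s * x = y} :=
    fun x => ⟨⟨_, x.2⟩, x.1, x.1.2, rfl⟩
  have e1 : {x : T // (x : A)⁻¹ * s * x ∈ S} ≃
      Σ y : {y : S // ∃ x ∈ T, x⁻¹ * s * x = y}, {x : T // (x : A)⁻¹ * s * x = (y.1 : A)} :=
    ⟨fun x => ⟨g x, ⟨x.1, rfl⟩⟩, fun z => ⟨z.2.1, by rw [z.2.2]; exact z.1.1.2⟩, fun x => rfl, by
      rintro ⟨⟨⟨y, hyS⟩, x₀, hx₀, hy⟩, ⟨x, hx⟩⟩
      have hx' : (x : A)⁻¹ * s * x = y := hx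
      subst hx'
      rfl⟩
  have : Fintype {y : S // ∃ x ∈ T, x⁻¹ * s * x = y} := Fintype.ofFinite _
  rw [hits, Nat.card_congr e1, Nat.card_sigma]
  rw [Finset.sum_congr rfl fun y _ => Nat.card_congr (key y).some]
  rw [Finset.sum_const, smul_eq_mul, mul_comm, Finset.card_univ,
    Nat.card_eq_fintype_card (α := {y : S // ∃ x ∈ T, x⁻¹ * s * x = y})]

/-- The form used in the rows: `|s^T| * hits = |T| * |s^T ∩ S|`. -/
theorem hits_mul [Finite A] (T S : Subgroup A) (s : A) :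
    hits T S s * (T ⊓ centralizer {s}).relIndex T = Nat.card T * Nat.card {y : S // ∃ x ∈ T, x⁻¹ * s * x = y} := by
  have h1 : Nat.card ↥(T ⊓ centralizer {s}) * (T ⊓ centralizer {s}).relIndex T = Nat.card T := by
    have h2 := ((T ⊓ centralizer {s}).subgroupOf T).card_mul_index
    rwa [Nat.card_congr (subgroupOfEquivOfLe (inf_le_left : T ⊓ centralizer {s} ≤ T)).toEquiv] at h2
  rw [hits_eq, ← h1]
  ring

end Cfsg.Agent.H786.FC
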