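import Cfsg.Agent.H786.FC.Bridge
import Cfsg.Agent.H786.FC.PartsC4
import Cfsg.Agent.H376.FC.Asm
import Cfsg.Agent.H466.FC.S00
import Cfsg.Agent.H886.FC.Class
import Cfsg.Agent.H886.FC.ClassBN
import Cfsg.Agent.H393.FC.C2
import Cfsg.Agent.H195.FC.C4Full
import Cfsg.Agent.H277.FC.SN
import Cfsg.Agent.H200.FC.Bridge
import Cfsg.Agent.H826.FC.BS00
import Cfsg.Agent.H602.FC.AutL
import Cfsg.Agent.H412.FC.AutU
import Cfsg.Agent.H214.FC.AutSp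
import Cfsg.Agent.H245.FC.Part
import Cfsg.Agent.H173.FC.C6TwoOn
import Cfsg.Agent.H716.FC.C6Seven
import Cfsg.Agent.H710.FC.COdd
import Cfsg.Agent.H923.FC.RedCor
import Cfsg.Agent.H10.FC.Fin
import Cfsg.Agent.H510.BF.Main
import Cfsg.Agent.H706.FC.Sp8
import Cfsg.Agent.H499.FC.BC1U
import Cfsg.Agent.H57.FC.Red
import Cfsg.Agent.H754.FC.Red
import Cfsg.Agent.H245.FC.CyB
import Cfsg.Agent.H886.FC.BTwoP
import Cfsg.Agent.H563.FC.U58
import Cfsg.Agent.H214.FC.C6Big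
import Cfsg.Agent.H184.FC.C3aCor
import Cfsg.Agent.H716.FC.C6Four
import Cfsg.Agent.H10.U3.Fin
import Cfsg.Agent.H412.FC.UFour
import Cfsg.Agent.H324.FC.Frame
import Cfsg.Agent.H920.FC.C4U
import Cfsg.Agent.H567.FC.OneB
import Cfsg.Agent.H5.FC.BPar
import Cfsg.Agent.H499.FC.BC2U
import Cfsg.Agent.H976.FC.Final
import Cfsg.Agent.H99.FC.S4
import Cfsg.Agent.H319.FC.Stmt

/-!
# S5764: the assembly  (helper786)
-/

set_option autoImplicit false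

namespace Cfsg.Agent.H786.FC

open Cfsg.Agent.H198.FC

theorem stmtC6_of4 (h4 : StmtC6On.{0, 0} fun n => n = 4) : StmtC6.{0, 0} :=
  stmtC6_of_parts H173.FC.stmtC6On_two
    (fun K _ _ V _ _ _ S hS hn hsol A r a hA h => H710.FC.stmtC6_prime K V S hS hn hsol A r a hA
      (by rw [show Module.finrank K V = 3 from h]; exact ⟨by norm_num, by norm_num⟩))
    h4
    (fun K _ _ V _ _ _ S hS hn hsol A r a hA h => by
      rcases h with h | h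
      · exact H710.FC.stmtC6_prime K V S hS hn hsol A r a hA (by rw [h]; exact ⟨by norm_num, by norm_num⟩)
      · exact H716.FC.stmtC6_ge7 K V S hS hn hsol A r a hA (by show 7 ≤ Module.finrank K V; omega))
    (fun K _ _ V _ _ _ S hS hn hsol A r a hA h => H716.FC.stmtC6_ge7 K V S hS hn hsol A r a hA
      (by show 7 ≤ Module.finrank K V; rcases h with h | h <;> omega))

theorem on_or {c : Bool} {P Q : ℕ → Prop} (hP : StmtBC6On.{0, 0} c P) (hQ : StmtBC6On.{0, 0} c Q) :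
    StmtBC6On.{0, 0} c fun n => P n ∨ Q n := by
  intro K _ _ V _ _ _ b hk hb h
  rcases h with h | h
  · exact hP K V b hk hb h
  · exact hQ K V b hk hb h

theorem thmL : ThmL.{0, 0} :=
  H376.FC.thmL H466.FC.stmtS00 H886.FC.stmtClass H393.FC.stmtC2 (stmtC3_of_parts H184.FC.stmtC3a H245.FC.stmtC3b H245.FC.stmtC3c)
    H195.FC.stmtC4 (stmtC6_of4 H716.FC.stmtC6_four) H754.FC.stmtRed
    (H923.FC.stmtRedCor_of fun K _ _ V _ _ _ S => H10.FC.stmtG4 S)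
    (H200.FC.stmtBridge_of H277.FC.stmtSN) H200.FC.stmtBridge2

theorem bc6S4 : StmtBC6On.{0, 0} false fun n => n = 4 :=
  fun K _ _ V _ _ _ b hk hb hn S hS hsol A r a hA => H99.FC.bc6S4 b (hk.2 rfl) hn S hS hsol A r a hA

/-- assembly of the unitary / symplectic part -/
theorem thmB_of (h00 : StmtBS00.{0, 0}) (hcl : StmtBClassN.{0, 0}) (hpar : StmtBPar.{0, 0}) (h1 : StmtBC1.{0, 0})
    (h2 : StmtBC2.{0, 0}) (h2' : StmtBC2'.{0, 0}) (h3 : StmtBC3.{0, 0}) (h4 : StmtBC4n.{0, 0})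
    (h6 : StmtBC6.{0, 0}) : ThmB.{0, 0} := by
  intro K _ _ V _ _ _ b hb S hS hsol
  by_cases hIN : S ⊓ IN K V = ⊥
  · exact h00 K V b hb S hS hsol hIN
  rcases hcl K V b hb S hS hsol hIN with hW | ⟨hno, hW | ⟨k, d, e, hk, hd, he, ha, hr, hp⟩ | ⟨e, he, ha, hp⟩ |
    ⟨E, hE, hEp, hEa, hES⟩ | ⟨u', y, Φ, hu, hy, hne, hadj, hΦ⟩ | ⟨A, r, a, hA⟩⟩
  · exact hpar K V b hb S hS hsol hW
  · exact h1 K V b hb S hS hsol hno hW
  · exact h2 K V b hb S hS hsol k d e hk hd he ha hr hp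
  · exact h2' K V b hb S hS hsol e he ha hp
  · exact h3 K V b hb S hS hsol E hE hEp hEa hES
  · exact h4 K V b hb S hS hsol u' y Φ hu hy hne hadj hΦ
  · exact h6 K V b hb S hS hsol A r a hA

theorem thmB : ThmB.{0, 0} :=
  thmB_of H826.FC.stmtBS00 H886.FC.stmtBClassN H5.FC.stmtBPar (stmtBC1_of H499.FC.stmtBC1U H57.FC.stmtBC1S)
    (stmtBC2_of H324.FC.stmtBC2U1 (H499.FC.stmtBC2U2 H5.FC.stmtBPar) (H57.FC.stmtBC2S H5.FC.stmtBPar)) H886.FC.stmtBC2' (H510.BF.stmtBC3 H567.FC.bc3V)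
    (stmtBC4n_of H920.FC.stmtBC4nK (H976.FC.stmtBC4nK_false_of' H5.FC.stmtBPar (stmtBC1_of H499.FC.stmtBC1U H57.FC.stmtBC1S))) (stmtBC6_of (on_or H10.U3.stmtBC6_three H412.FC.UFour.stmtBC6_U4) H563.FC.stmtBC6_U58 H214.FC.stmtBC6U9 bc6S4 H706.FC.stmtBC6_sp8 H214.FC.stmtBC6S16)

theorem final {G : Type*} [Group G] [Finite G] (T : Subgroup G) (hT : T.Normal)
    (hTs : IsSimpleGroup ↥T) (hTc : ¬ IsMulCommutative ↥T)
    (hTcent : Subgroup.centralizer (T : Set G) = ⊥) (hsoc : Cfsg.IsPSL ↥T ∨ Cfsg.IsPSU ↥T ∨ Cfsg.IsPSp ↥T)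
    (S : Subgroup G) (hS : Group.IsSolvable ↥S) :
    ∃ x₁ x₂ x₃ x₄ : G, S ⊓ (S).map (MulAut.conj x₁).toMonoidHom ⊓ (S).map (MulAut.conj x₂).toMonoidHom ⊓
      (S).map (MulAut.conj x₃).toMonoidHom ⊓ (S).map (MulAut.conj x₄).toMonoidHom = ⊥ := by
  have hB := thmB
  exact stmtMain (H602.FC.stmtAutL thmL) (H412.FC.stmtAutU hB) (H214.FC.stmtAutSp hB (H319.FC.stmtSp4G hB)) T hT hTs
    hTc hTcent hsoc S hS

end Cfsg.Agent.H786.FC
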