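import Cfsg.Agent.H786.FC.Count

/-!
# S5764: the assembly  (helper786)
-/

set_option autoImplicit false

namespace Cfsg.Agent.H786.FC

open Subgroup Cfsg

/-- The three family targets of S5764. -/
structure Rows : Prop where
  psl : ∀ (F : Type) [Field F] [Fintype F] (n : ℕ), 2 ≤ n → (n = 2 → 4 ≤ Fintype.card F) →
    AllFive (Matrix.ProjectiveSpecialLinearGroup (Fin n) F)
  psp : ∀ (F : Type) [Field F] [Fintype F] (m : ℕ), 2 ≤ m → (m = 2 → 3 ≤ Fintype.card F) → AllFive (PSp m F)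
  psu : ∀ (F : Type) [Field F] [Fintype F] (n q : ℕ), Fintype.card F = q ^ 2 → 3 ≤ n → ¬ (n = 3 ∧ q = 2) →
    AllFive (PSU n F q)

theorem statement_of_rows (R : Rows) {G : Type*} [Group G] [Finite G] (T : Subgroup G) (hT : T.Normal)
    (hTcent : Subgroup.centralizer (T : Set G) = ⊥) (hsoc : Cfsg.IsPSL ↥T ∨ Cfsg.IsPSU ↥T ∨ Cfsg.IsPSp ↥T)
    (S : Subgroup G) (hS : Group.IsSolvable ↥S) :
    ∃ x₁ x₂ x₃ x₄ : G, S ⊓ (S).map (MulAut.conj x₁).toMonoidHom ⊓ (S).map (MulAut.conj x₂).toMonoidHom ⊓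
      (S).map (MulAut.conj x₃).toMonoidHom ⊓ (S).map (MulAut.conj x₄).toMonoidHom = ⊥ := by
  refine statement_of_allFive T hT hTcent ?_ S hS
  rcases hsoc with h | h | h
  · obtain ⟨F, i1, i2, n, hn, h4, ⟨e⟩⟩ := h
    exact (R.psl F n hn h4).of_equiv e
  · obtain ⟨F, i1, i2, n, q, hq, hn, h32, ⟨e⟩⟩ := h
    exact (R.psu F n q hq hn h32).of_equiv e
  · obtain ⟨F, i1, i2, m, hm, h3, ⟨e⟩⟩ := h
    exact (R.psp F m hm h3).of_equiv e

end Cfsg.Agent.H786.FC
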